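import Mathlib

/-!
Norms for quadratic extensions of finite commutative rings: if an involutive automorphism `σ` of a
finite commutative ring moves some element by a unit, every fixed unit is of the form `σ a * a`.
Consequences for finite rings with an anti-involution.
-/

set_option autoImplicit false

namespace CfsgLib.IsomConj

theorem exists_binary_value {k : Type*} [Field k] [Finite k] (s n : k)
    (hD : s ^ 2 - 4 * n ≠ 0) (c : k) : ∃ x y : k, x ^ 2 + s * x * y + n * y ^ 2 = c := by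
  have := Fintype.ofFinite k
  by_cases h2 : ringChar k = 2
  · obtain ⟨x, hx⟩ := FiniteField.isSquare_of_char_two h2 c
    exact ⟨x, 0, by rw [hx]; ring⟩
  · have h20 : (2 : k) ≠ 0 := Ring.two_ne_zero h2
    have hodd : Fintype.card k % 2 = 1 := FiniteField.odd_card_of_char_ne_two h2
    obtain ⟨X, Y, hXY⟩ := FiniteField.exists_root_sum_quadratic
      (f := (Polynomial.X ^ 2 - Polynomial.C (4 * c) : Polynomial k))
      (g := (Polynomial.C (-(s ^ 2 - 4 * n)) * Polynomial.X ^ 2 : Polynomial k))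
      (Polynomial.degree_X_pow_sub_C two_pos _)
      (Polynomial.degree_C_mul_X_pow 2 (neg_ne_zero.2 hD)) hodd
    simp only [Polynomial.eval_sub, Polynomial.eval_pow, Polynomial.eval_X, Polynomial.eval_C,
      Polynomial.eval_mul] at hXY
    refine ⟨(X - s * Y) / 2, Y, ?_⟩
    field_simp
    linear_combination hXY

theorem exists_norm_sub_nilpotent {R : Type*} [CommRing R] [Finite R] (σ : R ≃+* R)
    (hσ : ∀ a, σ (σ a) = a) (ω : R) (hω : IsUnit (ω - σ ω)) (u : R) (hu : σ u = u) :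
    ∃ a, IsNilpotent (σ a * a - u) := by
  classical
  let P : Subring R := RingHom.eqLocus (σ : R →+* R) (RingHom.id R)
  have hmem : ∀ x, x ∈ P ↔ σ x = x := fun x => Iff.rfl
  let s : P := ⟨ω + σ ω, (hmem _).2 (by rw [map_add, hσ, add_comm])⟩
  let n : P := ⟨ω * σ ω, (hmem _).2 (by rw [map_mul, hσ, mul_comm])⟩
  let u' : P := ⟨u, hu⟩
  have hfix : ∀ x : P, σ (x : R) = x := fun x => x.2
  have hD : IsUnit (s ^ 2 - 4 * n) := by
    have h1 : IsUnit (((s ^ 2 - 4 * n : P)) : R) := by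
      have he : ((s ^ 2 - 4 * n : P) : R) = (ω - σ ω) ^ 2 := by
        push_cast
        simp only [s, n]
        show (ω + σ ω) ^ 2 - (4 : R) * (ω * σ ω) = _
        ring
      rw [he]
      exact hω.pow 2
    obtain ⟨v, hv⟩ := h1
    refine IsUnit.of_mul_eq_one ⟨((v⁻¹ : Rˣ) : R), (hmem _).2 ?_⟩ (Subtype.ext ?_)
    · have h2 : σ (v : R) * σ ((v⁻¹ : Rˣ) : R) = 1 := by rw [← map_mul, Units.mul_inv, map_one]
      rw [hv, hfix, ← hv] at h2
      exact (Units.inv_eq_of_mul_eq_one_right h2).symm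
    · show ((s ^ 2 - 4 * n : P) : R) * ((v⁻¹ : Rˣ) : R) = 1
      rw [← hv, Units.mul_inv]
  have hM : {I : Ideal P | I.IsMaximal}.Finite := Set.toFinite _
  have := hM.fintype
  let ι := {I : Ideal P | I.IsMaximal}
  have hloc : ∀ I : ι, ∃ x y : P, x ^ 2 + s * x * y + n * y ^ 2 - u' ∈ I.1 := by
    intro I
    have hImax : (I.1).IsMaximal := I.2
    let := Ideal.Quotient.field I.1
    have : Finite (P ⧸ I.1) := Finite.of_surjective _ Ideal.Quotient.mk_surjective
    have hD' : Ideal.Quotient.mk I.1 s ^ 2 - 4 * Ideal.Quotient.mk I.1 n ≠ 0 := by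
      intro h0
      have := hD.map (Ideal.Quotient.mk I.1)
      rw [map_sub, map_mul, map_pow, map_ofNat, h0] at this
      exact not_isUnit_zero this
    obtain ⟨x, y, hxy⟩ := exists_binary_value _ _ hD' (Ideal.Quotient.mk I.1 u')
    obtain ⟨x, rfl⟩ := Ideal.Quotient.mk_surjective x
    obtain ⟨y, rfl⟩ := Ideal.Quotient.mk_surjective y
    refine ⟨x, y, Ideal.Quotient.eq.1 ?_⟩
    simpa using hxy
  choose x y hxy using hloc
  have hcop : Pairwise fun I J : ι => IsCoprime I.1 J.1 := fun I J h =>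
    have hI' : (I.1).IsMaximal := I.2
    have hJ' : (J.1).IsMaximal := J.2
    Ideal.isCoprime_of_isMaximal fun e => h (Subtype.ext e)
  obtain ⟨X, hX⟩ := Ideal.exists_forall_sub_mem_ideal hcop x
  obtain ⟨Y, hY⟩ := Ideal.exists_forall_sub_mem_ideal hcop y
  refine ⟨(X : R) + (Y : R) * ω, ?_⟩
  have hnil : IsNilpotent (X ^ 2 + s * X * Y + n * Y ^ 2 - u') := by
    rw [← mem_nilradical, nilradical, ← IsArtinianRing.jacobson_eq_radical, Ideal.jacobson, Submodule.mem_sInf]
    rintro J ⟨-, hJ⟩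
    have h1 := hX ⟨J, hJ⟩
    have h2 := hY ⟨J, hJ⟩
    have h3 := hxy ⟨J, hJ⟩
    have he : X ^ 2 + s * X * Y + n * Y ^ 2 - u' =
        (x ⟨J, hJ⟩ ^ 2 + s * x ⟨J, hJ⟩ * y ⟨J, hJ⟩ + n * y ⟨J, hJ⟩ ^ 2 - u') +
        (X - x ⟨J, hJ⟩) * (X + x ⟨J, hJ⟩ + s * Y) +
        (Y - y ⟨J, hJ⟩) * (s * x ⟨J, hJ⟩ + n * (Y + y ⟨J, hJ⟩)) := by ring
    rw [he]
    exact J.add_mem (J.add_mem h3 (Ideal.mul_mem_right _ J h1)) (Ideal.mul_mem_right _ J h2)
  have hval : σ ((X : R) + (Y : R) * ω) * ((X : R) + (Y : R) * ω) - u =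
      P.subtype (X ^ 2 + s * X * Y + n * Y ^ 2 - u') := by
    simp only [map_sub, map_add, map_mul, map_pow, Subring.coe_subtype, hfix]
    simp only [s, n, u']
    ring
  rw [hval]
  exact hnil.map _

/-- Every fixed unit is a norm. -/
theorem exists_norm_eq {R : Type*} [CommRing R] [Finite R] (σ : R ≃+* R)
    (hσ : ∀ a, σ (σ a) = a) (ω : R) (hω : IsUnit (ω - σ ω)) (u : Rˣ) (hu : σ u = (u : R)) :
    ∃ a, σ a * a = u := by
  obtain ⟨v, hv⟩ := hω
  have hσv : σ ((v⁻¹ : Rˣ) : R) = -((v⁻¹ : Rˣ) : R) := by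
    have h1 : σ (v : R) = -(v : R) := by rw [hv, map_sub, hσ, neg_sub]
    have h2 : σ (v : R) * σ ((v⁻¹ : Rˣ) : R) = 1 := by rw [← map_mul, Units.mul_inv, map_one]
    rw [h1, neg_mul, ← mul_neg] at h2
    have h3 := Units.inv_eq_of_mul_eq_one_right h2
    linear_combination h3
  -- an element of trace one
  let e : R := ω * ((v⁻¹ : Rˣ) : R)
  have he : e + σ e = 1 := by
    simp only [e, map_mul, hσv]
    rw [← Units.mul_inv v, hv]
    ring
  obtain ⟨a, k, hk⟩ := exists_norm_sub_nilpotent σ hσ ω ⟨v, hv⟩ u hu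
  induction k using Nat.strong_induction_on generalizing a with
  | _ k ih =>
    by_cases h2 : k ≤ 1
    · refine ⟨a, sub_eq_zero.1 ?_⟩
      have := pow_eq_zero_of_le h2 hk
      simpa using this
    · let z := σ a * a - (u : R)
      have hNu : IsUnit ((u : R) + z) :=
        IsNilpotent.isUnit_add_left_of_commute ⟨k, hk⟩ u.isUnit (mul_comm _ _)
      obtain ⟨N, hN⟩ := hNu
      let c : R := -z * ((N⁻¹ : Rˣ) : R)
      have hz : σ z = z := by simp only [z, map_sub, map_mul, hσ, hu]; ring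
      have hc : σ c = c := by
        have h1 : σ (N : R) = N := by rw [hN, map_add, hu, hz]
        have h2 : σ (N : R) * σ ((N⁻¹ : Rˣ) : R) = 1 := by rw [← map_mul, Units.mul_inv, map_one]
        rw [h1] at h2
        simp only [c, map_mul, map_neg, hz, ← Units.inv_eq_of_mul_eq_one_right h2]
      have hNa : σ a * a = (N : R) := by rw [hN]; simp only [z]; ring
      have hcN : (N : R) * c = -z := by
        simp only [c]; rw [mul_left_comm, Units.mul_inv, mul_one]
      refine ih ((k + 1) / 2) (by omega) (a * (1 + e * c)) ?_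
      have hnew : σ (a * (1 + e * c)) * (a * (1 + e * c)) - (u : R) =
          z ^ 2 * (((N⁻¹ : Rˣ) : R) * (σ e * e)) := by
        have h3 : σ (a * (1 + e * c)) * (a * (1 + e * c)) =
            (N : R) * (1 + c * (e + σ e) + c ^ 2 * (σ e * e)) := by
          rw [map_mul, map_add, map_one, map_mul, hc, ← hNa]; ring
        rw [h3, he]
        linear_combination hN + hcN + (c * (σ e * e)) * hcN
      rw [hnew, mul_pow, ← pow_mul, pow_eq_zero_of_le (by omega) hk, zero_mul]

/-- Variant relative to an idempotent `e`: `ω - σ ω` need only be invertible on `e`. -/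
theorem exists_norm_eq_idem {R : Type*} [CommRing R] [Finite R] (σ : R ≃+* R)
    (hσ : ∀ a, σ (σ a) = a) (e : R) (he : e * e = e) (hσe : σ e = e) (ω d : R)
    (hd : (ω - σ ω) * d = e) (u : Rˣ) (hu : σ u = (u : R)) :
    ∃ a : Rˣ, e * (σ a * a) = e * u := by
  let I : Ideal R := Ideal.span {1 - e}
  have hI : I.map (σ : R →+* R) = I := by
    rw [Ideal.map_span, Set.image_singleton]
    simp [I, hσe]
  let σ' : R ⧸ I ≃+* R ⧸ I := Ideal.quotientEquiv I I σ hI.symm
  have hσ' : ∀ x, σ' (Ideal.Quotient.mk I x) = Ideal.Quotient.mk I (σ x) := fun x => by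
    simp [σ']
  have hfin : Finite (R ⧸ I) := Finite.of_surjective _ Ideal.Quotient.mk_surjective
  have hmk : Ideal.Quotient.mk I e = 1 := by
    rw [← (Ideal.Quotient.mk I).map_one, Ideal.Quotient.eq, ← neg_sub]
    exact I.neg_mem (Ideal.subset_span rfl)
  have hu' : σ' ((u.map (Ideal.Quotient.mk I : R →* R ⧸ I) : (R ⧸ I)ˣ) : R ⧸ I) =
      ((u.map (Ideal.Quotient.mk I : R →* R ⧸ I) : (R ⧸ I)ˣ) : R ⧸ I) := by
    show σ' (Ideal.Quotient.mk I u) = Ideal.Quotient.mk I u
    rw [hσ', hu]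
  obtain ⟨a, ha⟩ := exists_norm_eq σ' (fun x => by
      obtain ⟨x, rfl⟩ := Ideal.Quotient.mk_surjective x
      rw [hσ', hσ', hσ]) (Ideal.Quotient.mk I ω)
    (IsUnit.of_mul_eq_one (Ideal.Quotient.mk I d) (by rw [hσ', ← map_sub, ← map_mul, hd, hmk]))
    _ hu'
  obtain ⟨a, rfl⟩ := Ideal.Quotient.mk_surjective a
  have h1 : σ a * a - u ∈ I := Ideal.Quotient.eq.1 (by
    rw [map_mul, ← hσ']; exact ha)
  obtain ⟨c, hc⟩ := Ideal.mem_span_singleton'.1 h1
  have h2 : e * (σ a * a) = e * u := by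
    linear_combination (-e) * hc - c * he
  let a' : R := e * a + (1 - e)
  have h3 : σ a' * a' = e * u + (1 - e) := by
    simp only [a', map_add, map_mul, map_sub, map_one, hσe]
    linear_combination h2 + (σ a * a - σ a - a + 1) * he
  have h4 : IsUnit a' := by
    refine isUnit_of_mul_isUnit_right (x := σ a') ?_
    rw [h3]
    refine IsUnit.of_mul_eq_one (e * ((u⁻¹ : Rˣ) : R) + (1 - e)) ?_
    linear_combination (e * e) * u.mul_inv + (2 - (u : R) - ((u⁻¹ : Rˣ) : R)) * he
  refine ⟨h4.unit, ?_⟩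
  rw [h4.unit_spec, h3]
  linear_combination ((u : R) - 1) * he

/-- The closure of a commuting set stable under an anti-involution is a commutative ring with an
involution. -/
theorem exists_closure_involution {A : Type*} [Ring A] [Finite A] (τ : A → A)
    (hadd : ∀ a b, τ (a + b) = τ a + τ b) (hmul : ∀ a b, τ (a * b) = τ b * τ a)
    (hinv : ∀ a, τ (τ a) = a) (S : Set A) (hcomm : ∀ a ∈ S, ∀ b ∈ S, a * b = b * a)
    (hS : ∀ a ∈ S, τ a ∈ Subring.closure S) :
    (∀ a ∈ Subring.closure S, ∀ b ∈ Subring.closure S, a * b = b * a) ∧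
      (∀ a ∈ Subring.closure S, τ a ∈ Subring.closure S) ∧
      (∀ a : Subring.closure S, IsUnit (a : A) → IsUnit a) := by
  let Q := Subring.closure S
  have h1 : Q ≤ Subring.centralizer S :=
    Subring.closure_le.2 fun a ha => Subring.mem_centralizer_iff.2 fun b hb => hcomm b hb a ha
  have h2 : Q ≤ Subring.centralizer (Q : Set A) := Subring.closure_le.2 fun a ha =>
    Subring.mem_centralizer_iff.2 fun b hb => (Subring.mem_centralizer_iff.1 (h1 hb) a ha).symm
  have hQ : ∀ a ∈ Q, ∀ b ∈ Q, a * b = b * a := fun a ha b hb =>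
    Subring.mem_centralizer_iff.1 (h2 hb) a ha
  let τh : A →+ A := AddMonoidHom.mk' τ hadd
  have hτ1 : τ 1 = 1 := by
    have := hmul (τ 1) 1
    rwa [mul_one, hinv, mul_one, eq_comm] at this
  have hτQ : ∀ a ∈ Q, τ a ∈ Q := fun a ha => by
    refine Subring.closure_induction (p := fun a _ => τ a ∈ Q) hS ?_ ?_ ?_ ?_ ?_ ha
    · show τh 0 ∈ Q
      rw [map_zero]
      exact zero_mem Q
    · exact hτ1.symm ▸ one_mem Q
    · exact fun x y _ _ hx hy => (hadd x y).symm ▸ add_mem hx hy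
    · intro x _ hx
      show τh (-x) ∈ Q
      rw [map_neg]
      exact neg_mem hx
    · exact fun x y _ _ hx hy => (hmul x y).symm ▸ mul_mem hy hx
  have hfinQ : Finite Q := Finite.of_injective _ Subtype.val_injective
  have hunit : ∀ a : Q, IsUnit (a : A) → IsUnit a := fun a ha => by
    have hinj : Function.Injective fun b : Q => a * b := fun b c h =>
      Subtype.ext (ha.mul_left_cancel (congrArg Subtype.val h))
    obtain ⟨b, hb⟩ := Finite.surjective_of_injective hinj 1
    exact IsUnit.of_mul_eq_one b hb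
  exact ⟨hQ, hτQ, hunit⟩

/-- Fixed units of a finite ring with anti-involution are norms from a commutative subring. -/
theorem exists_star_mul_self {A : Type*} [Ring A] [Finite A] (τ : A → A)
    (hadd : ∀ a b, τ (a + b) = τ a + τ b) (hmul : ∀ a b, τ (a * b) = τ b * τ a)
    (hinv : ∀ a, τ (τ a) = a) (S : Set A) (hcomm : ∀ a ∈ S, ∀ b ∈ S, a * b = b * a)
    (hS : ∀ a ∈ S, τ a ∈ Subring.closure S)
    (ω : A) (hωS : ω ∈ Subring.closure S) (hω : IsUnit (ω - τ ω))
    (u : A) (huS : u ∈ Subring.closure S) (hu : IsUnit u) (huτ : τ u = u) :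
    ∃ a ∈ Subring.closure S, τ a * a = u := by
  obtain ⟨hQ, hτQ, hunit⟩ := exists_closure_involution τ hadd hmul hinv S hcomm hS
  let Q := Subring.closure S
  let cr : CommRing Q := { (inferInstance : Ring Q) with
    mul_comm := fun a b => Subtype.ext (hQ _ a.2 _ b.2) }
  have hfinQ : Finite Q := Finite.of_injective _ Subtype.val_injective
  let σ : Q ≃+* Q :=
    { toFun := fun a => ⟨τ a, hτQ _ a.2⟩
      invFun := fun a => ⟨τ a, hτQ _ a.2⟩
      left_inv := fun a => Subtype.ext (hinv _)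
      right_inv := fun a => Subtype.ext (hinv _)
      map_mul' := fun a b => Subtype.ext ((hmul _ _).trans (hQ _ (hτQ _ b.2) _ (hτQ _ a.2)))
      map_add' := fun a b => Subtype.ext (hadd _ _) }
  obtain ⟨a, ha⟩ := exists_norm_eq σ (fun a => Subtype.ext (hinv _)) ⟨ω, hωS⟩
    (hunit _ hω) (hunit ⟨u, huS⟩ hu).unit (Subtype.ext huτ)
  exact ⟨a, a.2, congrArg Subtype.val ha⟩

/-- Variant of `exists_star_mul_self` relative to an idempotent. -/
theorem exists_star_mul_self_idem {A : Type*} [Ring A] [Finite A] (τ : A → A)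
    (hadd : ∀ a b, τ (a + b) = τ a + τ b) (hmul : ∀ a b, τ (a * b) = τ b * τ a)
    (hinv : ∀ a, τ (τ a) = a) (S : Set A) (hcomm : ∀ a ∈ S, ∀ b ∈ S, a * b = b * a)
    (hS : ∀ a ∈ S, τ a ∈ Subring.closure S)
    (e : A) (heS : e ∈ Subring.closure S) (he : e * e = e) (heτ : τ e = e)
    (ω d : A) (hωS : ω ∈ Subring.closure S) (hdS : d ∈ Subring.closure S) (hd : (ω - τ ω) * d = e)
    (u : A) (huS : u ∈ Subring.closure S) (hu : IsUnit u) (huτ : τ u = u) :
    ∃ a : Aˣ, (a : A) ∈ Subring.closure S ∧ e * (τ a * a) = e * u := by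
  obtain ⟨hQ, hτQ, hunit⟩ := exists_closure_involution τ hadd hmul hinv S hcomm hS
  let Q := Subring.closure S
  let cr : CommRing Q := { (inferInstance : Ring Q) with
    mul_comm := fun a b => Subtype.ext (hQ _ a.2 _ b.2) }
  have hfinQ : Finite Q := Finite.of_injective _ Subtype.val_injective
  let σ : Q ≃+* Q :=
    { toFun := fun a => ⟨τ a, hτQ _ a.2⟩
      invFun := fun a => ⟨τ a, hτQ _ a.2⟩
      left_inv := fun a => Subtype.ext (hinv _)
      right_inv := fun a => Subtype.ext (hinv _)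
      map_mul' := fun a b => Subtype.ext ((hmul _ _).trans (hQ _ (hτQ _ b.2) _ (hτQ _ a.2)))
      map_add' := fun a b => Subtype.ext (hadd _ _) }
  obtain ⟨a, ha⟩ := exists_norm_eq_idem σ (fun a => Subtype.ext (hinv _)) ⟨e, heS⟩
    (Subtype.ext he) (Subtype.ext heτ) ⟨ω, hωS⟩ ⟨d, hdS⟩ (Subtype.ext hd)
    (hunit ⟨u, huS⟩ hu).unit (Subtype.ext huτ)
  exact ⟨Units.map Q.subtype.toMonoidHom a, (a : Q).2, congrArg Subtype.val ha⟩

end CfsgLib.IsomConj
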