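import Cfsg.Agent.Lib.IsomConj.Norm
import Cfsg.Agent.Lib.UnitaryEmbed.Herm

/-!
Two elements of a finite unitary group are conjugate in it as soon as they are similar.
-/

set_option autoImplicit false

namespace CfsgLib.IsomConj

open Matrix CfsgLib.UnitaryEmbed

variable {K : Type*} [Field K] [Fintype K] {q n : ℕ}

/-- The conjugate transpose with respect to `x ↦ x ^ q`. -/
def ctr (q : ℕ) (M : Matrix (Fin n) (Fin n) K) : Matrix (Fin n) (Fin n) K := (M.map (· ^ q))ᵀ

theorem mem_GU_iff_ctr (hK : Fintype.card K = q ^ 2) {g : GL (Fin n) K} :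
    g ∈ Cfsg.GU n K q ↔ ctr q (g : Matrix (Fin n) (Fin n) K) * g = 1 := by
  obtain ⟨τ, hτ, -, hττ⟩ := exists_conj hK
  have hq : 0 < q := Nat.zero_lt_of_lt (q_gt_one hK)
  have hform : ∀ u v : Fin n → K, Cfsg.hermForm n K q
      ((g : Matrix (Fin n) (Fin n) K) *ᵥ u) ((g : Matrix (Fin n) (Fin n) K) *ᵥ v) =
      u ⬝ᵥ (((g : Matrix (Fin n) (Fin n) K)ᵀ * (g : Matrix (Fin n) (Fin n) K).map τ) *ᵥ
        fun j => τ (v j)) := by
    intro u v
    rw [← Matrix.mulVec_mulVec, Matrix.dotProduct_mulVec u, Matrix.vecMul_transpose]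
    simp only [Cfsg.hermForm, dotProduct]
    refine Finset.sum_congr rfl fun i _ => ?_
    rw [← hτ]
    simp [Matrix.mulVec, dotProduct, map_sum, map_mul]
  have hmap : ∀ M : Matrix (Fin n) (Fin n) K, ctr q M = (M.map τ)ᵀ := fun M => by
    unfold ctr; congr 2; exact funext fun x => (hτ x).symm
  have hinv : ((g : Matrix (Fin n) (Fin n) K)ᵀ * (g : Matrix (Fin n) (Fin n) K).map τ)ᵀ =
      ctr q (g : Matrix (Fin n) (Fin n) K) * g := by rw [transpose_mul, transpose_transpose, hmap]
  constructor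
  · intro h
    rw [← hinv, ← transpose_one]
    congr 1
    ext i j
    have h1 := h (Pi.single i 1) (Pi.single j 1)
    rw [show (Units.coeHom (Matrix (Fin n) (Fin n) K)) g = (g : Matrix (Fin n) (Fin n) K) from rfl,
      hform] at h1
    have hs : (fun k => τ ((Pi.single j 1 : Fin n → K) k)) = Pi.single j 1 := by
      ext k; by_cases hk : k = j <;> simp [hk]
    rw [hs, Matrix.mulVec_single_one, single_dotProduct, one_mul] at h1
    rw [Matrix.col_apply] at h1
    rw [h1, Cfsg.hermForm, Fintype.sum_eq_single i fun k hk => by simp [hk], Matrix.one_apply]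
    by_cases hij : i = j
    · simp [hij]
    · simp [hij, zero_pow hq.ne']
  · intro h u v
    rw [show (Units.coeHom (Matrix (Fin n) (Fin n) K)) g = (g : Matrix (Fin n) (Fin n) K) from rfl,
      hform, ← Matrix.transpose_transpose ((g : Matrix (Fin n) (Fin n) K)ᵀ * _), hinv, h,
      transpose_one, one_mulVec]
    simp [Cfsg.hermForm, dotProduct, hτ]

/-- Similar elements of a finite unitary group are conjugate in it. -/
theorem GU_isConj_of_similar (hK : Fintype.card K = q ^ 2) (x y : Cfsg.GU n K q)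
    (h : IsConj (x : GL (Fin n) K) (y : GL (Fin n) K)) : IsConj x y := by
  obtain ⟨g, hg⟩ := isConj_iff.1 h
  obtain ⟨τ, hτ, hτne, hττ⟩ := exists_conj hK
  let A := Matrix (Fin n) (Fin n) K
  let T : A → A := fun M => (M.map τ)ᵀ
  have hmap : ∀ M : A, ctr q M = T M := fun M => by
    show _ = (M.map τ)ᵀ
    unfold ctr; congr 2; exact funext fun c => (hτ c).symm
  have hTmul : ∀ a b : A, T (a * b) = T b * T a := fun a b => by
    show ((a * b).map τ)ᵀ = (b.map τ)ᵀ * (a.map τ)ᵀ
    rw [Matrix.map_mul, transpose_mul]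
  have hTinv : ∀ a : A, T (T a) = a := fun a => by ext i j; exact hττ _
  have hmem : ∀ w : Cfsg.GU n K q, T ((w : GL (Fin n) K) : A) * ((w : GL (Fin n) K) : A) = 1 :=
    fun w => by rw [← hmap]; exact (mem_GU_iff_ctr hK).1 w.2
  have hT1 : T 1 = 1 := by
    show ((1 : A).map τ)ᵀ = 1
    rw [Matrix.map_one _ (map_zero τ) (map_one τ), transpose_one]
  obtain ⟨c, hc⟩ : ∃ c, τ c ≠ c := by
    by_contra hall
    push Not at hall
    exact hτne (RingHom.ext hall)
  let u : A := T (g : A) * (g : A)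
  have hcomm : u * ((x : GL (Fin n) K) : A) = ((x : GL (Fin n) K) : A) * u := by
    have hy : ((y : GL (Fin n) K) : A) * (g : A) = (g : A) * ((x : GL (Fin n) K) : A) := by
      rw [← hg, Units.val_mul, Units.val_mul, mul_assoc, Units.inv_mul, mul_one]
    have h1 : T ((x : GL (Fin n) K) : A) * u * ((x : GL (Fin n) K) : A) = u := by
      show T _ * (T (g : A) * (g : A)) * _ = T (g : A) * (g : A)
      rw [← mul_assoc, ← hTmul, mul_assoc, ← hy, hTmul, mul_assoc, ← mul_assoc (T ((y : GL (Fin n) K) : A)),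
        hmem, one_mul]
    have h2 : ((x : GL (Fin n) K) : A) * T ((x : GL (Fin n) K) : A) = 1 := mul_eq_one_comm.1 (hmem x)
    calc u * ((x : GL (Fin n) K) : A)
        = ((x : GL (Fin n) K) : A) * (T ((x : GL (Fin n) K) : A) * u * ((x : GL (Fin n) K) : A)) := by
          rw [← mul_assoc, ← mul_assoc, h2, one_mul]
      _ = _ := by rw [h1]
  let S : Set A := {u, Matrix.scalar (Fin n) c, Matrix.scalar (Fin n) (τ c)}
  have hsc : ∀ (d : K) (M : A), Matrix.scalar (Fin n) d * M = M * Matrix.scalar (Fin n) d :=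
    fun d M => Matrix.scalar_commute d (fun r' => mul_comm d r') M
  have hS : ∀ a ∈ S, T a ∈ Subring.closure S := by
    have hTs : ∀ d, T (Matrix.scalar (Fin n) d) = Matrix.scalar (Fin n) (τ d) := fun d => by
      ext i j; by_cases hij : i = j <;> simp [T, Matrix.scalar_apply, hij, Ne.symm]
    rintro a (rfl | rfl | rfl)
    · rw [show T u = u by show T (T _ * _) = T _ * _; rw [hTmul, hTinv]]
      exact Subring.subset_closure (Or.inl rfl)
    · rw [hTs]; exact Subring.subset_closure (Or.inr (Or.inr rfl))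
    · rw [hTs, hττ]; exact Subring.subset_closure (Or.inr (Or.inl rfl))
  obtain ⟨a, haQ, ha⟩ := exists_star_mul_self (A := A) T
    (fun a b => by show ((a + b).map τ)ᵀ = (a.map τ)ᵀ + (b.map τ)ᵀ
                   rw [Matrix.map_add _ (map_add τ), transpose_add])
    hTmul hTinv S
    (by rintro a (rfl | rfl | rfl) b (rfl | rfl | rfl) <;>
      first | rfl | exact hsc _ _ | exact (hsc _ _).symm)
    hS (Matrix.scalar (Fin n) c) (Subring.subset_closure (Or.inr (Or.inl rfl)))
    (by
      have : T (Matrix.scalar (Fin n) c) = Matrix.scalar (Fin n) (τ c) := by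
        ext i j; by_cases hij : i = j <;> simp [T, Matrix.scalar_apply, hij, Ne.symm]
      rw [this, ← map_sub]
      exact (isUnit_iff_ne_zero.2 (sub_ne_zero.2 (Ne.symm hc))).map _)
    u (Subring.subset_closure (Or.inl rfl))
    (IsUnit.mul (IsUnit.of_mul_eq_one (T (↑(g⁻¹) : A)) (by
      rw [← hTmul, Units.inv_mul]; exact hT1))
      g.isUnit)
    (by show T (T _ * _) = T _ * _; rw [hTmul, hTinv])
  have hax : Commute ((x : GL (Fin n) K) : A) a := by
    have : Subring.closure S ≤ Subring.centralizer {((x : GL (Fin n) K) : A)} := by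
      refine Subring.closure_le.2 ?_
      rintro b (rfl | rfl | rfl) <;> refine Subring.mem_centralizer_iff.2 fun z hz => ?_ <;>
        rw [Set.mem_singleton_iff.1 hz]
      · exact hcomm.symm
      · exact (hsc _ _).symm
      · exact (hsc _ _).symm
    exact Subring.mem_centralizer_iff.1 (this haQ) _ rfl
  have hua : IsUnit a := by
    have hu : IsUnit (T a * a) := ha ▸ IsUnit.mul (IsUnit.of_mul_eq_one (T (↑(g⁻¹) : A)) (by
      rw [← hTmul, Units.inv_mul]; exact hT1)) g.isUnit
    exact ((Matrix.isUnit_iff_isUnit_det _).2 (by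
      rw [Matrix.isUnit_iff_isUnit_det, Matrix.det_mul, IsUnit.mul_iff] at hu; exact hu.2))
  obtain ⟨a', rfl⟩ := hua
  have hk : g * a'⁻¹ ∈ Cfsg.GU n K q := by
    rw [mem_GU_iff_ctr hK, hmap, Units.val_mul, hTmul, mul_assoc, ← mul_assoc (T (g : A))]
    show T (↑a'⁻¹ : A) * (u * (↑a'⁻¹ : A)) = 1
    rw [← ha, mul_assoc, Units.mul_inv, mul_one, ← hTmul, Units.mul_inv]
    exact hT1
  refine isConj_iff.2 ⟨⟨g * a'⁻¹, hk⟩, Subtype.ext ?_⟩
  show g * a'⁻¹ * (x : GL (Fin n) K) * (g * a'⁻¹)⁻¹ = (y : GL (Fin n) K)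
  have hax' : (x : GL (Fin n) K) * a' = a' * (x : GL (Fin n) K) := Units.ext hax.eq
  rw [← hg, _root_.mul_inv_rev, inv_inv, mul_assoc g, mul_assoc g, mul_assoc a'⁻¹,
    ← mul_assoc (x : GL (Fin n) K), hax', mul_assoc a', inv_mul_cancel_left, mul_assoc]

end CfsgLib.IsomConj
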