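import Cfsg.Agent.Lib.IsomConj.Norm

/-!
Matrix core of "similar implies conjugate" for isometries of odd order prime to the characteristic
of a symmetric or skew form: a similarity can be corrected to be isometric away from the fixed
space.
-/

set_option autoImplicit false

namespace CfsgLib.IsomConj

open Matrix Finset

variable {F : Type*} [Field F] {ι : Type*} [Fintype ι] [DecidableEq ι]

/-- The projection killing the fixed space of an element of order dividing `r`. -/
def movedProj (r : ℕ) (x : Matrix ι ι F) : Matrix ι ι F :=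
  1 - (r : F)⁻¹ • ∑ i ∈ range r, x ^ i

variable {r : ℕ} {x : Matrix ι ι F}

theorem mul_sum_pow (hx : x ^ r = 1) : x * ∑ i ∈ range r, x ^ i = ∑ i ∈ range r, x ^ i := by
  have h := mul_geom_sum x r
  rw [hx, sub_self, sub_mul, one_mul, sub_eq_zero] at h
  exact h

theorem movedProj_comm (r : ℕ) (x : Matrix ι ι F) : x * movedProj r x = movedProj r x * x := by
  simp [movedProj, mul_sub, sub_mul, Finset.mul_sum, Finset.sum_mul, ← pow_succ, ← pow_succ']

theorem mul_one_sub_movedProj (hx : x ^ r = 1) : x * (1 - movedProj r x) = 1 - movedProj r x := by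
  rw [movedProj, sub_sub_cancel, mul_smul_comm, mul_sum_pow hx]

theorem movedProj_idem (hr : (r : F) ≠ 0) (hx : x ^ r = 1) :
    movedProj r x * movedProj r x = movedProj r x := by
  have hp : ∀ i, x ^ i * (∑ j ∈ range r, x ^ j) = ∑ j ∈ range r, x ^ j := fun i => by
    induction i with
    | zero => simp
    | succ i ih => rw [pow_succ, mul_assoc, mul_sum_pow hx, ih]
  have hs : ((r : F)⁻¹ • ∑ i ∈ range r, x ^ i) * ((r : F)⁻¹ • ∑ i ∈ range r, x ^ i) =
      (r : F)⁻¹ • ∑ i ∈ range r, x ^ i := by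
    rw [smul_mul_smul_comm, Finset.sum_mul, Finset.sum_congr rfl (fun i _ => hp i), Finset.sum_const,
      Finset.card_range, ← Nat.cast_smul_eq_nsmul F, smul_smul, mul_assoc, inv_mul_cancel₀ hr, mul_one]
  simp only [movedProj, mul_sub, sub_mul, one_mul, mul_one, hs]
  abel

/-- A partner of `x - 1` on the moved space. -/
def movedInv (r : ℕ) (x : Matrix ι ι F) : Matrix ι ι F :=
  (r : F)⁻¹ • ∑ i ∈ range r, (i : F) • x ^ i

theorem sub_one_mul_movedInv (hr : (r : F) ≠ 0) (hx : x ^ r = 1) :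
    (x - 1) * movedInv r x = movedProj r x := by
  have key : ∀ n : ℕ, (x - 1) * ∑ i ∈ range n, (i : F) • x ^ i =
      (n : F) • x ^ n - x * ∑ i ∈ range n, x ^ i := by
    intro n
    induction n with
    | zero => simp
    | succ n ih =>
      rw [Finset.sum_range_succ, Finset.sum_range_succ, mul_add, mul_add, ih, mul_smul_comm, sub_mul,
        one_mul, ← pow_succ', Nat.cast_succ, add_smul, one_smul, smul_sub]
      abel
  rw [movedInv, mul_smul_comm, key, hx, mul_sum_pow hx, smul_sub, smul_smul, inv_mul_cancel₀ hr,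
    one_smul, movedProj]

theorem movedProj_conj {k k' : Matrix ι ι F} {y : Matrix ι ι F} (h : k * x = y * k) (hk : k * k' = 1) :
    movedProj r y = k * movedProj r x * k' := by
  have hp : ∀ i : ℕ, k * x ^ i * k' = y ^ i := fun i => by
    rw [(SemiconjBy.pow_right h i).eq, mul_assoc, hk, mul_one]
  simp only [movedProj, mul_sub, sub_mul, mul_one, hk, mul_smul_comm, smul_mul_assoc, Finset.mul_sum,
    Finset.sum_mul, hp]

theorem movedProj_commute {a : Matrix ι ι F} (h : a * x = x * a) :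
    a * movedProj r x = movedProj r x * a := by
  have hp : ∀ i : ℕ, a * x ^ i = x ^ i * a := fun i => (SemiconjBy.pow_right h i).eq
  simp only [movedProj, mul_sub, sub_mul, mul_one, one_mul, mul_smul_comm, smul_mul_assoc,
    Finset.mul_sum, Finset.sum_mul, hp]

theorem transpose_movedProj_mul {B : Matrix ι ι F} (hB : xᵀ * B * x = B) (hx : x ^ r = 1) :
    (movedProj r x)ᵀ * B = B * movedProj r x := by
  have h1 : ∀ i : ℕ, (x ^ i)ᵀ * B * x ^ i = B := by
    intro i
    induction i with
    | zero => simp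
    | succ i ih =>
      calc (x ^ (i + 1))ᵀ * B * x ^ (i + 1) = (x ^ i)ᵀ * (xᵀ * B * x) * x ^ i := by
            conv_lhs => arg 2; rw [pow_succ']
            conv_lhs => arg 1; arg 1; rw [pow_succ', transpose_mul]
            simp only [mul_assoc]
        _ = B := by rw [hB, ih]
  have h2 : ∀ i ∈ range r, (x ^ i)ᵀ * B = B * (x * x ^ (r - 1 - i)) := fun i hi => by
    have hi' := Finset.mem_range.1 hi
    calc (x ^ i)ᵀ * B = (x ^ i)ᵀ * B * x ^ (i + (r - 1 - i + 1)) := by
          rw [show i + (r - 1 - i + 1) = r by omega, hx, mul_one]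
      _ = B * (x * x ^ (r - 1 - i)) := by rw [pow_add, ← mul_assoc, h1, pow_succ']
  simp only [movedProj, transpose_sub, transpose_one, transpose_smul, transpose_sum, sub_mul,
    mul_sub, one_mul, mul_one, smul_mul_assoc, mul_smul_comm, Finset.sum_mul, Finset.sum_congr rfl h2]
  rw [← Finset.mul_sum, ← Finset.mul_sum, Finset.sum_range_reflect (fun i => x ^ i), mul_sum_pow hx]

/-- The core without the parity hypothesis: it suffices that `x` and `x * x` have the same moved space. -/
theorem exists_isometric_on_moved' [Fintype F] {B : Matrix ι ι F} (hBd : IsUnit B.det) (ε : F)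
    (hε : ε * ε = 1) (hBt : Bᵀ = ε • B) (hr : (r : F) ≠ 0)
    (x y g : Matrix.GeneralLinearGroup ι F)
    (hxB : (x : Matrix ι ι F)ᵀ * B * (x : Matrix ι ι F) = B)
    (hyB : (y : Matrix ι ι F)ᵀ * B * (y : Matrix ι ι F) = B)
    (hxr : (x : Matrix ι ι F) ^ r = 1)
    (he2' : movedProj r ((x : Matrix ι ι F) * (x : Matrix ι ι F)) = movedProj r (x : Matrix ι ι F)) (hg : g * x * g⁻¹ = y) :
    ∃ k : Matrix.GeneralLinearGroup ι F, k * x = y * k ∧
      ((k : Matrix ι ι F) * movedProj r (x : Matrix ι ι F))ᵀ * B *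
          ((k : Matrix ι ι F) * movedProj r (x : Matrix ι ι F)) =
        (movedProj r (x : Matrix ι ι F))ᵀ * B * movedProj r (x : Matrix ι ι F) ∧
      ∀ G : Matrix.GeneralLinearGroup ι F,
        (G : Matrix ι ι F)ᵀ * B * (G : Matrix ι ι F) = B →
        (G : Matrix ι ι F) * movedProj r (x : Matrix ι ι F) =
          (k : Matrix ι ι F) * movedProj r (x : Matrix ι ι F) →
        G * x * G⁻¹ = y := by
  classical
  let X : Matrix ι ι F := x
  let Y : Matrix ι ι F := y
  obtain ⟨τ, hτdef⟩ : ∃ τ : Matrix ι ι F → Matrix ι ι F, ∀ M, τ M = B⁻¹ * Mᵀ * B :=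
    ⟨_, fun _ => rfl⟩
  have hBB : B * B⁻¹ = 1 := Matrix.mul_nonsing_inv _ hBd
  have hBB' : B⁻¹ * B = 1 := Matrix.nonsing_inv_mul _ hBd
  have hBinvt : (B⁻¹)ᵀ = ε • B⁻¹ := by
    rw [Matrix.transpose_nonsing_inv, hBt]
    exact Matrix.inv_eq_right_inv (by rw [smul_mul_smul_comm, hε, one_smul, hBB])
  have hτmul : ∀ a b, τ (a * b) = τ b * τ a := fun a b => by
    simp only [hτdef, transpose_mul, mul_assoc]
    rw [← mul_assoc B B⁻¹, hBB, one_mul]
  have hττ : ∀ a, τ (τ a) = a := fun a => by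
    simp only [hτdef, transpose_mul, transpose_transpose, hBinvt, hBt, smul_mul_assoc, mul_smul_comm,
      smul_smul, hε, one_smul]
    rw [← mul_assoc B⁻¹, hBB', one_mul, mul_assoc, hBB', mul_one]
  have hτadd : ∀ a b, τ (a + b) = τ a + τ b := fun a b => by
    simp only [hτdef, transpose_add, mul_add, add_mul]
  have hτsc : ∀ c : F, τ (Matrix.scalar ι c) = Matrix.scalar ι c := fun c => by
    simp only [hτdef, Matrix.scalar_apply, Matrix.diagonal_transpose]
    rw [← Matrix.smul_one_eq_diagonal, mul_smul_comm, mul_one, smul_mul_assoc, hBB']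
  have hτX : τ X * X = 1 := by
    rw [hτdef]
    rw [mul_assoc B⁻¹, mul_assoc B⁻¹, show Xᵀ * B * X = B from hxB, hBB']
  have hXτ : X * τ X = 1 := mul_eq_one_comm.1 hτX
  have hτY : τ Y * Y = 1 := by
    rw [hτdef]
    rw [mul_assoc B⁻¹, mul_assoc B⁻¹, show Yᵀ * B * Y = B from hyB, hBB']
  let u : Matrix ι ι F := τ (g : Matrix ι ι F) * (g : Matrix ι ι F)
  have hgx : Y * (g : Matrix ι ι F) = (g : Matrix ι ι F) * X := by
    show (y : Matrix ι ι F) * _ = _ * (x : Matrix ι ι F)
    rw [← hg, Units.val_mul, Units.val_mul, mul_assoc, Units.inv_mul, mul_one]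
  have hux : u * X = X * u := by
    have h1 : τ X * u * X = u := by
      show τ X * (τ _ * _) * X = τ _ * _
      rw [← mul_assoc, ← hτmul, mul_assoc, ← hgx, hτmul, mul_assoc, ← mul_assoc (τ Y), hτY, one_mul]
    calc u * X = X * (τ X * u * X) := by rw [← mul_assoc, ← mul_assoc, hXτ, one_mul]
      _ = X * u := by rw [h1]
  let e := movedProj r X
  have hτe : τ e = e := by
    rw [hτdef]
    rw [mul_assoc, transpose_movedProj_mul hxB hxr, ← mul_assoc, hBB', one_mul]
  let S : Set (Matrix ι ι F) := {u, X, τ X} ∪ Set.range (fun c : F => Matrix.scalar ι c)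
  have hsc : ∀ (c : F) (M : Matrix ι ι F), Matrix.scalar ι c * M = M * Matrix.scalar ι c :=
    fun c M => Matrix.scalar_commute c (fun r' => mul_comm c r') M
  have huτX : u * τ X = τ X * u :=
    calc u * τ X = τ X * (X * u) * τ X := by rw [← mul_assoc (τ X), hτX, one_mul]
      _ = τ X * u := by rw [← hux, mul_assoc, mul_assoc, hXτ, mul_one]
  have hXX : X * τ X = τ X * X := by rw [hXτ, hτX]
  have hcomm : ∀ a ∈ S, ∀ b ∈ S, a * b = b * a := by
    rintro a ((rfl | rfl | rfl) | ⟨c, rfl⟩) b ((rfl | rfl | rfl) | ⟨c', rfl⟩) <;>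
      first
        | rfl | exact hsc _ _ | exact (hsc _ _).symm | exact hux | exact hux.symm | exact huτX
        | exact huτX.symm | exact hXX | exact hXX.symm
  have hmS : ∀ a ∈ S, a ∈ Subring.closure S := fun a ha => Subring.subset_closure ha
  have hSτ : ∀ a ∈ S, τ a ∈ Subring.closure S := by
    rintro a ((rfl | rfl | rfl) | ⟨c, rfl⟩)
    · rw [show τ u = u by show τ (τ _ * _) = τ _ * _; rw [hτmul, hττ]]
      exact hmS _ (Or.inl (Or.inl rfl))
    · exact hmS _ (Or.inl (Or.inr (Or.inr rfl)))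
    · rw [hττ]; exact hmS _ (Or.inl (Or.inr (Or.inl rfl)))
    · rw [hτsc]; exact hmS _ (Or.inr ⟨c, rfl⟩)
  have hsmul : ∀ (c : F) (M : Matrix ι ι F), M ∈ Subring.closure S → c • M ∈ Subring.closure S :=
    fun c M hM => by
      rw [show c • M = Matrix.scalar ι c * M by
        rw [Matrix.scalar_apply, Matrix.smul_eq_diagonal_mul]]
      exact mul_mem (hmS _ (Or.inr ⟨c, rfl⟩)) hM
  have hXmem : X ∈ Subring.closure S := hmS _ (Or.inl (Or.inr (Or.inl rfl)))
  have heS : e ∈ Subring.closure S :=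
    sub_mem (one_mem _) (hsmul _ _ (sum_mem fun i _ => pow_mem hXmem i))
  let X2 : Matrix ι ι F := X * X
  have hX2r : X2 ^ r = 1 := by
    show (X * X) ^ r = 1
    rw [← pow_two, ← pow_mul, mul_comm, pow_mul, hxr, one_pow]
  have he2 : movedProj r X2 = e := he2'
  let d : Matrix ι ι F := X * movedInv r X2
  have hdS : d ∈ Subring.closure S :=
    mul_mem hXmem (hsmul _ _ (sum_mem fun i _ => hsmul _ _ (pow_mem (mul_mem hXmem hXmem) i)))
  have hd : (X - τ X) * d = e := by
    show (X - τ X) * (X * movedInv r X2) = e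
    rw [← mul_assoc, sub_mul, hτX, ← he2]
    exact sub_one_mul_movedInv hr hX2r
  obtain ⟨a, haS, ha⟩ := exists_star_mul_self_idem τ hτadd hτmul hττ S hcomm hSτ e heS
    (movedProj_idem hr hxr) hτe X d hXmem hdS hd u (hmS _ (Or.inl (Or.inl rfl)))
    (IsUnit.mul (IsUnit.of_mul_eq_one (τ ((g⁻¹ : Matrix.GeneralLinearGroup ι F) : Matrix ι ι F)) (by
      rw [← hτmul, Units.inv_mul, hτdef, transpose_one, mul_one, hBB'])) g.isUnit)
    (by show τ (τ _ * _) = τ _ * _; rw [hτmul, hττ])
  obtain ⟨hQ, -, -⟩ := exists_closure_involution τ hτadd hτmul hττ S hcomm hSτ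
  have hax : x * a = a * x := Units.ext (hQ _ hXmem _ haS)
  have hkx : g * a⁻¹ * x = y * (g * a⁻¹) := by
    rw [← hg, mul_assoc g, show a⁻¹ * x = x * a⁻¹ by rw [inv_mul_eq_iff_eq_mul, ← mul_assoc, ← hax, mul_inv_cancel_right]]
    group
  refine ⟨g * a⁻¹, hkx, ?_, ?_⟩
  · have hk : τ ((g * a⁻¹ : Matrix.GeneralLinearGroup ι F) : Matrix ι ι F) *
        ((g * a⁻¹ : Matrix.GeneralLinearGroup ι F) : Matrix ι ι F) * e = e := by
      have hea : (a : Matrix ι ι F) * e = e * (a : Matrix ι ι F) := hQ _ haS _ heS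
      have hea' : ((a⁻¹ : (Matrix ι ι F)ˣ) : Matrix ι ι F) * e = e * ((a⁻¹ : (Matrix ι ι F)ˣ) : Matrix ι ι F) := by
        calc _ = ((a⁻¹ : (Matrix ι ι F)ˣ) : Matrix ι ι F) * (e * (a : Matrix ι ι F)) * ((a⁻¹ : (Matrix ι ι F)ˣ) : Matrix ι ι F) := by
              rw [mul_assoc, mul_assoc e, Units.mul_inv, mul_one]
          _ = _ := by rw [← hea, ← mul_assoc, Units.inv_mul, one_mul]
      rw [Units.val_mul, hτmul, mul_assoc (τ ((a⁻¹ : (Matrix ι ι F)ˣ) : Matrix ι ι F)), ← mul_assoc (τ (g : Matrix ι ι F))]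
      show τ _ * (u * _) * e = e
      rw [mul_assoc, mul_assoc u, hea', ← mul_assoc u, hQ u (hmS _ (Or.inl (Or.inl rfl))) e heS, ← ha]
      simp only [mul_assoc, Units.mul_inv, mul_one]
      rw [hQ e heS (τ (a : Matrix ι ι F)) (by
        obtain ⟨-, hτQ, -⟩ := exists_closure_involution τ hτadd hτmul hττ S hcomm hSτ
        exact hτQ _ haS), ← mul_assoc (τ ((a⁻¹ : (Matrix ι ι F)ˣ) : Matrix ι ι F)), ← hτmul, Units.mul_inv]
      rw [hτdef, transpose_one, mul_one, hBB', one_mul]
    set kM : Matrix ι ι F := ((g * a⁻¹ : Matrix.GeneralLinearGroup ι F) : Matrix ι ι F)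
    calc (kM * e)ᵀ * B * (kM * e) = eᵀ * (B * (τ kM * kM * e)) := by
          simp only [hτdef, transpose_mul, ← mul_assoc]
          rw [mul_assoc eᵀ B B⁻¹, hBB, mul_one]
      _ = eᵀ * B * e := by rw [hk, mul_assoc]
  · intro G hG hGe
    set kM : Matrix ι ι F := ((g * a⁻¹ : Matrix.GeneralLinearGroup ι F) : Matrix ι ι F)
    set kM' : Matrix ι ι F := (((g * a⁻¹ : Matrix.GeneralLinearGroup ι F)⁻¹ : Matrix.GeneralLinearGroup ι F) : Matrix ι ι F)
    have hkk : kM * kM' = 1 := Units.mul_inv _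
    have hkX : kM * X = Y * kM := congrArg Units.val hkx
    have hYr : Y ^ r = 1 := by
      have h1 : Y ^ r * kM = kM := by
        rw [← (SemiconjBy.pow_right hkX r).eq, show X ^ r = 1 from hxr, mul_one]
      calc Y ^ r = Y ^ r * kM * kM' := by rw [mul_assoc, hkk, mul_one]
        _ = 1 := by rw [h1, hkk]
    have he' : movedProj r Y = (G : Matrix ι ι F) * e * kM' := by
      rw [hGe]; exact movedProj_conj hkX hkk
    have hzero : movedProj r Y * ((G : Matrix ι ι F) * (1 - e)) = 0 := by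
      have h1 : B * (movedProj r Y * ((G : Matrix ι ι F) * (1 - e))) = 0 :=
        calc B * (movedProj r Y * ((G : Matrix ι ι F) * (1 - e)))
            = ((G : Matrix ι ι F) * e * kM')ᵀ * B * ((G : Matrix ι ι F) * (1 - e)) := by
              rw [← mul_assoc, ← transpose_movedProj_mul hyB hYr, he']
          _ = kM'ᵀ * (eᵀ * ((G : Matrix ι ι F)ᵀ * B * (G : Matrix ι ι F)) * (1 - e)) := by
              simp only [transpose_mul, mul_assoc]
          _ = kM'ᵀ * (B * (e * (1 - e))) := by
              rw [hG, transpose_movedProj_mul hxB hxr, mul_assoc]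
          _ = 0 := by rw [mul_sub, movedProj_idem hr hxr, mul_one, sub_self, mul_zero, mul_zero]
      calc movedProj r Y * ((G : Matrix ι ι F) * (1 - e))
          = B⁻¹ * (B * (movedProj r Y * ((G : Matrix ι ι F) * (1 - e)))) := by
            rw [← mul_assoc B⁻¹, hBB', one_mul]
        _ = 0 := by rw [h1, mul_zero]
    have hmain : (G : Matrix ι ι F) * X = Y * (G : Matrix ι ι F) := by
      have h1 : (G : Matrix ι ι F) * X * e = Y * (G : Matrix ι ι F) * e := by
        rw [mul_assoc, mul_assoc Y, show X * e = e * X from movedProj_comm r X, ← mul_assoc, hGe,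
          mul_assoc, show e * X = X * e from (movedProj_comm r X).symm, ← mul_assoc, hkX, mul_assoc]
      have h2 : (G : Matrix ι ι F) * X * (1 - e) = Y * (G : Matrix ι ι F) * (1 - e) := by
        rw [mul_assoc, mul_one_sub_movedProj hxr, mul_assoc Y]
        have h3 : (G : Matrix ι ι F) * (1 - e) = (1 - movedProj r Y) * ((G : Matrix ι ι F) * (1 - e)) := by
          rw [sub_mul, one_mul, hzero, sub_zero]
        conv_rhs => rw [h3, ← mul_assoc, mul_one_sub_movedProj hYr, ← h3]
      calc (G : Matrix ι ι F) * X = (G : Matrix ι ι F) * X * e + (G : Matrix ι ι F) * X * (1 - e) := by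
            rw [← mul_add, add_sub_cancel, mul_one]
        _ = Y * (G : Matrix ι ι F) := by rw [h1, h2, ← mul_add, add_sub_cancel, mul_one]
    have hmain' : G * x = y * G := Units.ext hmain
    rw [hmain', mul_inv_cancel_right]

/-- The core: a similarity `g` between isometries `x`, `y` of odd order dividing `r` of a symmetric
or skew form can be replaced by `k` which is isometric on the moved space; any isometry agreeing
with `k` there conjugates `x` to `y`. -/
theorem exists_isometric_on_moved [Fintype F] {B : Matrix ι ι F} (hBd : IsUnit B.det) (ε : F)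
    (hε : ε * ε = 1) (hBt : Bᵀ = ε • B) (hrodd : Odd r) (hr : (r : F) ≠ 0)
    (x y g : Matrix.GeneralLinearGroup ι F)
    (hxB : (x : Matrix ι ι F)ᵀ * B * (x : Matrix ι ι F) = B)
    (hyB : (y : Matrix ι ι F)ᵀ * B * (y : Matrix ι ι F) = B)
    (hxr : (x : Matrix ι ι F) ^ r = 1) (hg : g * x * g⁻¹ = y) :
    ∃ k : Matrix.GeneralLinearGroup ι F, k * x = y * k ∧
      ((k : Matrix ι ι F) * movedProj r (x : Matrix ι ι F))ᵀ * B *
          ((k : Matrix ι ι F) * movedProj r (x : Matrix ι ι F)) =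
        (movedProj r (x : Matrix ι ι F))ᵀ * B * movedProj r (x : Matrix ι ι F) ∧
      ∀ G : Matrix.GeneralLinearGroup ι F,
        (G : Matrix ι ι F)ᵀ * B * (G : Matrix ι ι F) = B →
        (G : Matrix ι ι F) * movedProj r (x : Matrix ι ι F) =
          (k : Matrix ι ι F) * movedProj r (x : Matrix ι ι F) →
        G * x * G⁻¹ = y := by
  refine exists_isometric_on_moved' hBd ε hε hBt hr x y g hxB hyB hxr ?_ hg
  show (1 : Matrix ι ι F) - _ • _ = 1 - _ • _
  congr 2
  have hmod : ∀ m : ℕ, (x : Matrix ι ι F) ^ m = (x : Matrix ι ι F) ^ (m % r) := fun m => by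
    conv_lhs => rw [← Nat.mod_add_div m r, pow_add, pow_mul, hxr, one_pow, mul_one]
  obtain ⟨j, hj⟩ := hrodd
  refine Finset.sum_nbij' (fun i => 2 * i % r) (fun i => (j + 1) * i % r) ?_ ?_ ?_ ?_ ?_
  · intro i hi
    exact Finset.mem_range.2 (Nat.mod_lt _ (by omega))
  · intro i hi
    exact Finset.mem_range.2 (Nat.mod_lt _ (by omega))
  · intro i hi
    show (j + 1) * (2 * i % r) % r = i
    rw [Nat.mul_mod_mod, show (j + 1) * (2 * i) = i + r * i by rw [hj]; ring, Nat.add_mul_mod_self_left,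
      Nat.mod_eq_of_lt (Finset.mem_range.1 hi)]
  · intro i hi
    show 2 * ((j + 1) * i % r) % r = i
    rw [Nat.mul_mod_mod, show 2 * ((j + 1) * i) = i + r * i by rw [hj]; ring, Nat.add_mul_mod_self_left,
      Nat.mod_eq_of_lt (Finset.mem_range.1 hi)]
  · intro i hi
    show ((x : Matrix ι ι F) * (x : Matrix ι ι F)) ^ i = (x : Matrix ι ι F) ^ (2 * i % r)
    rw [← hmod, pow_mul, pow_two]

end CfsgLib.IsomConj
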