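import Cfsg.Agent.Lib.IsomConj.Bilin
import Cfsg.Agent.Lib.Forms.Witt
import Cfsg.Agent.Lib.Orth.Basic
import Cfsg.Agent.Lib.Sp.Group

/-!
Elements of odd order prime to the characteristic of a finite orthogonal or symplectic group are
conjugate in it as soon as they are similar.
-/

set_option autoImplicit false

namespace CfsgLib.IsomConj

open Matrix
open LinearMap (BilinForm)

variable {F : Type*} [Field F] {ι : Type} [Fintype ι] [DecidableEq ι]

theorem toMatrix'_preserved (b : BilinForm F (ι → F)) (M N : Matrix ι ι F) :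
    Mᵀ * BilinForm.toMatrix' b * M = Nᵀ * BilinForm.toMatrix' b * N ↔
      ∀ u v, b (M *ᵥ u) (M *ᵥ v) = b (N *ᵥ u) (N *ᵥ v) := by
  have h : ∀ P : Matrix ι ι F, Pᵀ * BilinForm.toMatrix' b * P =
      BilinForm.toMatrix' (b.comp (Matrix.toLin' P) (Matrix.toLin' P)) := fun P => by
    rw [BilinForm.toMatrix'_comp, LinearMap.toMatrix'_toLin']
  rw [h, h]
  constructor
  · intro e u v
    exact LinearMap.congr_fun (LinearMap.congr_fun (BilinForm.toMatrix'.injective e) u) v
  · intro e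
    exact congrArg _ (LinearMap.ext fun u => LinearMap.ext fun v => e u v)

/-- Similar elements of odd order prime to the characteristic in a finite orthogonal group are
conjugate in it. -/
theorem O_isConj_of_similar [Fintype F] (Q : QuadraticForm F (ι → F))
    (hQ : Q.polarBilin.Nondegenerate) {r : ℕ} (hrodd : Odd r) (hr : (r : F) ≠ 0)
    (x y : Cfsg.isometryGroup F ⇑Q) (hxr : x ^ r = 1)
    (h : IsConj (x : GL ι F) (y : GL ι F)) : IsConj x y := by
  obtain ⟨g, hg⟩ := isConj_iff.1 h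
  let B : Matrix ι ι F := BilinForm.toMatrix' Q.polarBilin
  have hBd : IsUnit B.det := by
    rw [isUnit_iff_ne_zero, ← BilinForm.nondegenerate_toBilin'_iff_det_ne_zero,
      Matrix.toBilin'_toMatrix']
    exact hQ
  have hBt : Bᵀ = (1 : F) • B := by
    rw [one_smul]
    ext i j
    simp [B, LinearMap.BilinForm.toMatrix'_apply, QuadraticMap.polar_comm]
  have hpres : ∀ w : Cfsg.isometryGroup F ⇑Q,
      ((w : GL ι F) : Matrix ι ι F)ᵀ * B * ((w : GL ι F) : Matrix ι ι F) = B := fun w => by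
    have := (toMatrix'_preserved Q.polarBilin ((w : GL ι F) : Matrix ι ι F) 1).2 fun u v => by
      rw [one_mulVec, one_mulVec]; exact Orth.polar_app w u v
    simpa using this
  obtain ⟨k, hkx, hkB, hfin⟩ := exists_isometric_on_moved hBd 1 (one_mul 1) hBt hrodd hr
    (x : GL ι F) (y : GL ι F) g (hpres x) (hpres y)
    (by simpa using congrArg (fun w : Cfsg.isometryGroup F ⇑Q =>
      ((w : GL ι F) : Matrix ι ι F)) hxr) hg
  let X : Matrix ι ι F := ((x : GL ι F) : Matrix ι ι F)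
  let Y : Matrix ι ι F := ((y : GL ι F) : Matrix ι ι F)
  let K : Matrix ι ι F := (k : Matrix ι ι F)
  let e := movedProj r X
  have hxr' : X ^ r = 1 := by
    simpa [X] using congrArg (fun w : Cfsg.isometryGroup F ⇑Q =>
      ((w : GL ι F) : Matrix ι ι F)) hxr
  have hpol : ∀ u v, QuadraticMap.polar Q (K *ᵥ (e *ᵥ u)) (K *ᵥ (e *ᵥ v)) =
      QuadraticMap.polar Q (e *ᵥ u) (e *ᵥ v) := fun u v => by
    have := (toMatrix'_preserved Q.polarBilin (K * e) e).1 hkB u v
    simpa [← mulVec_mulVec, QuadraticMap.polarBilin_apply_apply] using this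
  let D : (ι → F) → F := fun v => Q (K *ᵥ (e *ᵥ v)) - Q (e *ᵥ v)
  have hDadd : ∀ u v, D (u + v) = D u + D v := fun u v => by
    have h1 := hpol u v
    simp only [D, mulVec_add, QuadraticMap.polar] at h1 ⊢
    linear_combination h1
  have hQinv : ∀ (w : Cfsg.isometryGroup F ⇑Q) (v : ι → F),
      Q (((w : GL ι F) : Matrix ι ι F) *ᵥ v) = Q v := fun w v => Orth.Q_app w v
  have hDx : ∀ v, D (X *ᵥ v) = D v := fun v => by
    have h1 : K * e * X = Y * (K * e) := by
      rw [mul_assoc, ← movedProj_comm, ← mul_assoc, show K * X = Y * K from congrArg Units.val hkx,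
        mul_assoc]
    have h2 : e * X = X * e := (movedProj_comm r X).symm
    simp only [D, mulVec_mulVec, ← mul_assoc, h1, h2]
    rw [mul_assoc Y K e, ← mulVec_mulVec v Y (K * e), ← mulVec_mulVec v X e, hQinv y, hQinv x]
  have hD0 : ∀ v, D v = 0 := fun v => by
    let u := movedInv r X *ᵥ v
    have hu : X *ᵥ u - u = e *ᵥ v := by
      rw [show X *ᵥ u - u = (X - 1) *ᵥ u by rw [sub_mulVec, one_mulVec], mulVec_mulVec,
        sub_one_mul_movedInv hr hxr']
    have hev : D (e *ᵥ v) = D v := by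
      simp only [D, mulVec_mulVec, mul_assoc, movedProj_idem hr hxr', e]
    have hsum := hDadd (X *ᵥ u - u) u
    rw [sub_add_cancel, hDx, hu, hev] at hsum
    linear_combination -hsum
  let φ : LinearMap.range (Matrix.toLin' e) →ₗ[F] (ι → F) :=
    (Matrix.toLin' K).comp (Submodule.subtype _)
  have hinj : Function.Injective φ := by
    intro u v huv
    refine Subtype.ext ?_
    have h1 : K *ᵥ (u : ι → F) = K *ᵥ (v : ι → F) := huv
    have h2 := congrArg (((k⁻¹ : GL ι F) : Matrix ι ι F) *ᵥ ·) h1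
    simpa [K, mulVec_mulVec] using h2
  obtain ⟨G, hG, hGe⟩ := Forms.quad_witt_extension Q hQ (LinearMap.range (Matrix.toLin' e)) φ hinj
    (fun u => by
      obtain ⟨v, hv⟩ := u.2
      show Q (K *ᵥ (u : ι → F)) = Q (u : ι → F)
      rw [← hv, toLin'_apply]
      exact sub_eq_zero.1 (hD0 v))
  let W : Cfsg.isometryGroup F ⇑Q := Orth.mkO G.toLinearMap G.symm.toLinearMap
    (LinearMap.ext fun v => G.apply_symm_apply v) (LinearMap.ext fun v => G.symm_apply_apply v) hG
  have happ : ∀ v, ((W : GL ι F) : Matrix ι ι F) *ᵥ v = G v := fun v => Orth.app_mkO _ _ _ _ hG v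
  refine isConj_iff.2 ⟨W, Subtype.ext (hfin (W : GL ι F) (hpres W) ?_)⟩
  refine Matrix.ext_of_mulVec_single fun j => ?_
  rw [← mulVec_mulVec, ← mulVec_mulVec, happ]
  exact hGe ⟨e *ᵥ Pi.single j 1, ⟨Pi.single j 1, toLin'_apply _ _⟩⟩

/-- Similar elements of odd order prime to the characteristic in a finite symplectic group are
conjugate in it. -/
theorem Sp_isConj_of_similar [Fintype F] {m r : ℕ} (hrodd : Odd r) (hr : (r : F) ≠ 0)
    (x y : Matrix.symplecticGroup (Fin m) F) (hxr : x ^ r = 1)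
    (g : GL (Fin m ⊕ Fin m) F)
    (h : (g : Matrix (Fin m ⊕ Fin m) (Fin m ⊕ Fin m) F) * x.1 =
      y.1 * (g : Matrix (Fin m ⊕ Fin m) (Fin m ⊕ Fin m) F)) : IsConj x y := by
  let J : Matrix (Fin m ⊕ Fin m) (Fin m ⊕ Fin m) F := Matrix.J (Fin m) F
  have hJt : Jᵀ = (-1 : F) • J := by rw [neg_one_smul]; exact Matrix.J_transpose _ _
  have hpres : ∀ w : Matrix.symplecticGroup (Fin m) F, w.1ᵀ * J * w.1 = J := fun w =>
    SymplecticGroup.mem_iff'.1 w.2
  let U : ∀ w : Matrix.symplecticGroup (Fin m) F, GL (Fin m ⊕ Fin m) F := fun w =>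
    ⟨w.1, (w⁻¹).1, by rw [← Submonoid.coe_mul, mul_inv_cancel, Submonoid.coe_one],
      by rw [← Submonoid.coe_mul, inv_mul_cancel, Submonoid.coe_one]⟩
  have hxr' : x.1 ^ r = 1 := by rw [← SubmonoidClass.coe_pow, hxr, Submonoid.coe_one]
  obtain ⟨k, hkx, hkB, hfin⟩ := exists_isometric_on_moved (Matrix.isUnit_det_J (Fin m) F) (-1)
    (by ring) hJt hrodd hr (U x) (U y) g (hpres x) (hpres y) hxr'
    (mul_inv_eq_iff_eq_mul.2 (Units.ext h))
  let e := movedProj r x.1
  let φ : LinearMap.range (Matrix.toLin' e) →ₗ[F] (Fin m ⊕ Fin m → F) :=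
    (Matrix.toLin' (k : Matrix (Fin m ⊕ Fin m) (Fin m ⊕ Fin m) F)).comp (Submodule.subtype _)
  have hinj : Function.Injective φ := by
    intro u v huv
    refine Subtype.ext ?_
    have h1 : (k : Matrix (Fin m ⊕ Fin m) (Fin m ⊕ Fin m) F) *ᵥ (u : Fin m ⊕ Fin m → F) =
        (k : Matrix (Fin m ⊕ Fin m) (Fin m ⊕ Fin m) F) *ᵥ (v : Fin m ⊕ Fin m → F) := huv
    have h2 := congrArg (((k⁻¹ : GL (Fin m ⊕ Fin m) F) :
      Matrix (Fin m ⊕ Fin m) (Fin m ⊕ Fin m) F) *ᵥ ·) h1
    simpa [mulVec_mulVec] using h2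
  have hpol : ∀ u v, Sp.sympBilin m F ((k : Matrix (Fin m ⊕ Fin m) (Fin m ⊕ Fin m) F) *ᵥ (e *ᵥ u))
      ((k : Matrix (Fin m ⊕ Fin m) (Fin m ⊕ Fin m) F) *ᵥ (e *ᵥ v)) =
      Sp.sympBilin m F (e *ᵥ u) (e *ᵥ v) := by
    intro u v
    have hJ : BilinForm.toMatrix' (Sp.sympBilin m F) = J := BilinForm.toMatrix'_toBilin' J
    have := (toMatrix'_preserved (Sp.sympBilin m F)
      ((k : Matrix (Fin m ⊕ Fin m) (Fin m ⊕ Fin m) F) * e) e).1 (by rw [hJ]; exact hkB) u v
    rwa [← mulVec_mulVec, ← mulVec_mulVec] at this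
  obtain ⟨G, hG, hGe⟩ := Sp.witt_extension Sp.sympBilin_isAlt Sp.sympBilin_separatingLeft
    (LinearMap.range (Matrix.toLin' e)) φ hinj (fun u v => by
      obtain ⟨u', hu⟩ := u.2
      obtain ⟨v', hv⟩ := v.2
      show Sp.sympBilin m F (_ *ᵥ (u : Fin m ⊕ Fin m → F)) (_ *ᵥ (v : Fin m ⊕ Fin m → F)) = _
      rw [← hu, ← hv, toLin'_apply, toLin'_apply]
      exact hpol u' v')
  obtain ⟨W, rfl⟩ := Sp.exists_toEquiv_eq (Sp.transvGroup_le_isom hG)
  refine isConj_iff.2 ⟨W, ?_⟩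
  have hfinW := hfin (U W) (hpres W) (Matrix.ext_of_mulVec_single fun j => by
    rw [← mulVec_mulVec, ← mulVec_mulVec]
    exact hGe ⟨e *ᵥ Pi.single j 1, ⟨Pi.single j 1, toLin'_apply _ _⟩⟩)
  exact Subtype.ext (congrArg Units.val hfinW)

end CfsgLib.IsomConj
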